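import Mathlib
import Cfsg.Prelude.Def_Sporadic_a
import Cfsg.Prelude.Def_Spor_Conway
import Cfsg.Agent.Helper9.Golay.CertT
import Cfsg.Agent.Helper9.Golay.Aut
import Cfsg.Agent.Helper9.Leech.Engine
import Cfsg.Agent.Helper9.Leech.Xi
import Cfsg.Agent.Helper9.Leech.Monomial

set_option autoImplicit false

/-!
Automorphisms of the lattice of rank 24 given by words in letters, a letter being the automorphism
of the partition into six parts or a monomial automorphism given by the tables of a permutation and
of its inverse and by the mask of a code word; the action of a word on lists of coordinates.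
-/

namespace Cfsg.Agent.Helper9.LeechAct

open Cfsg Cfsg.Agent.Helper9.Golay Cfsg.Agent.Helper9.Leech

/-- the map of points of a table. -/
def tblFun (t : List ℕ) (p : GolayPt) : GolayPt := idxPtN (t.getD (ptIdx p) 0)

/-- the check that two tables are inverse permutations of the 24 indices. -/
def tblInvChk (t t' : List ℕ) : Bool :=
  t.length == 24 && (List.range 24).all (fun i => decide (t.getD i 0 < 24) &&
    decide (t'.getD i 0 < 24) && (t'.getD (t.getD i 0) 0 == i) && (t.getD (t'.getD i 0) 0 == i))

theorem tblInvChk_spec {t t' : List ℕ} (h : tblInvChk t t' = true) :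
    t.length = 24 ∧ ∀ i < 24, t.getD i 0 < 24 ∧ t'.getD i 0 < 24 ∧
      t'.getD (t.getD i 0) 0 = i ∧ t.getD (t'.getD i 0) 0 = i := by
  unfold tblInvChk at h
  rw [Bool.and_eq_true, beq_iff_eq, List.all_eq_true] at h
  refine ⟨h.1, fun i hi => ?_⟩
  have h1 := h.2 i (List.mem_range.2 hi)
  simp only [Bool.and_eq_true, decide_eq_true_eq, beq_iff_eq] at h1
  exact ⟨h1.1.1.1, h1.1.1.2, h1.1.2, h1.2⟩

theorem tblFun_tblFun {t t' : List ℕ} (h1 : ∀ i < 24, t.getD i 0 < 24)
    (h2 : ∀ i < 24, t'.getD (t.getD i 0) 0 = i) (p : GolayPt) : tblFun t' (tblFun t p) = p := by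
  unfold tblFun
  rw [ptIdx_idxPtN (h1 _ (ptIdx_lt p)), h2 _ (ptIdx_lt p), idxPtN_ptIdx]

/-- the permutation of the points of a table. -/
def permOfTbl (t t' : List ℕ) (h : tblInvChk t t' = true) : Equiv.Perm GolayPt where
  toFun := tblFun t
  invFun := tblFun t'
  left_inv := tblFun_tblFun (fun i hi => ((tblInvChk_spec h).2 i hi).1)
    (fun i hi => ((tblInvChk_spec h).2 i hi).2.2.1)
  right_inv := tblFun_tblFun (fun i hi => ((tblInvChk_spec h).2 i hi).2.1)
    (fun i hi => ((tblInvChk_spec h).2 i hi).2.2.2)

theorem permOfTbl_symm_apply (t t' : List ℕ) (h : tblInvChk t t' = true) (p : GolayPt) :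
    (permOfTbl t t' h).symm p = tblFun t' p := rfl

theorem isTbl_permOfTbl (t t' : List ℕ) (h : tblInvChk t t' = true) :
    IsTbl (permOfTbl t t' h) t := by
  refine ⟨(tblInvChk_spec h).1, fun p => ?_⟩
  change _ = ptIdx (tblFun t p)
  unfold tblFun
  rw [ptIdx_idxPtN (((tblInvChk_spec h).2 _ (ptIdx_lt p)).1)]

/-- the check that a table preserves the code. -/
def m24Chk (t : List ℕ) : Bool := basis12.all (fun b => codeList.contains (pullT t b))

theorem decW_comp_tbl {σ : Equiv.Perm GolayPt} {t : List ℕ} (ht : IsTbl σ t) (m : ℕ) :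
    decW m ∘ σ = decW (pullT t m) := by
  funext p
  simp only [Function.comp_apply, decW]
  rw [testBit_pullT, ht.2 p]

theorem permOfTbl_mem (t t' : List ℕ) (h : tblInvChk t t' = true) (hm : m24Chk t = true) :
    permOfTbl t t' h ∈ M24 := by
  apply mem_M24_of_comp_span _ _ golayCode_le_span_basis
  rintro w ⟨b, hb, rfl⟩
  rw [decW_comp_tbl (isTbl_permOfTbl t t' h)]
  apply decW_mem_of_mem_codeList
  unfold m24Chk at hm
  rw [List.all_eq_true] at hm
  have := hm b hb
  rwa [List.contains_iff_mem] at this

/-! ### the action on lists of coordinates -/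

/-- the image of a list of coordinates under a monomial automorphism. -/
def monoL (t' : List ℕ) (m : ℕ) (al : List ℤ) : List ℤ :=
  (List.range 24).map (fun i => if m.testBit i then -al.getD (t'.getD i 0) 0
    else al.getD (t'.getD i 0) 0)

theorem toVec_monoL (t t' : List ℕ) (h : tblInvChk t t' = true) (m : ℕ) (al : List ℤ) :
    toVec (monoL t' m al) = signedPerm (permOfTbl t t' h) (suppM m) (toVec al) := by
  funext p
  have hp := ptIdx_lt p
  unfold toVec monoL signedPerm
  rw [List.getD_eq_getElem _ _ (by simpa using hp)]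
  simp only [List.getElem_map, List.getElem_range]
  rw [permOfTbl_symm_apply]
  unfold tblFun
  rw [ptIdx_idxPtN (((tblInvChk_spec h).2 _ hp).2.1)]
  by_cases hb : m.testBit (ptIdx p) = true
  · rw [if_pos hb, if_pos ((mem_suppM m p).2 hb)]
  · rw [if_neg hb, if_neg (fun hc => hb ((mem_suppM m p).1 hc))]

/-- the indices of the points of the six parts. -/
def tetIdx : List (List ℕ) :=
  [[0, 1, 2, 23], [3, 5, 14, 17], [8, 11, 12, 18], [9, 10, 15, 20], [6, 7, 19, 21],
    [4, 13, 16, 22]]

/-- the indices of the parts of the points. -/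
def kapN : List ℕ := [0, 0, 0, 1, 5, 1, 4, 4, 2, 3, 3, 2, 2, 5, 1, 3, 5, 1, 2, 4, 3, 4, 5, 0]

/-- half of the sum of the coordinates over a part. -/
def hsumL (al : List ℤ) (k : ℕ) : ℤ := (((tetIdx.getD k []).map (fun i => al.getD i 0)).sum) / 2

/-- the image of a list of coordinates under the automorphism of the partition. -/
def xiL (al : List ℤ) : List ℤ :=
  (List.range 24).map (fun i => if kapN.getD i 0 = 0 then al.getD i 0 - hsumL al 0
    else hsumL al (kapN.getD i 0) - al.getD i 0)

theorem kap_val (p : GolayPt) : (kap p).val = kapN.getD (ptIdx p) 0 := by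
  revert p
  decide

theorem tsum_toVec (al : List ℤ) :
    ∀ k : Fin 6, Leech.tsum (toVec al) k = ((tetIdx.getD k.val []).map (fun i => al.getD i 0)).sum := by
  intro k
  unfold Leech.tsum
  have hf : ∀ k : Fin 6, Finset.univ.filter (fun p : GolayPt => kap p = k) =
      ((tetIdx.getD k.val []).map idxPtN).toFinset := by decide
  have hnd : ∀ k : Fin 6, ((tetIdx.getD k.val []).map idxPtN).Nodup := by decide
  have hlt : ∀ k : Fin 6, ∀ i ∈ tetIdx.getD k.val [], i < 24 := by decide
  rw [hf k, List.sum_toFinset _ (hnd k), List.map_map]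
  congr 1
  apply List.map_congr_left
  intro i hi
  simp only [Function.comp_apply, toVec]
  rw [ptIdx_idxPtN (hlt k i hi)]

theorem hsum_toVec (al : List ℤ) (k : Fin 6) : hsum (toVec al) k = hsumL al k.val := by
  unfold hsum hsumL
  rw [tsum_toVec]

theorem toVec_xiL (al : List ℤ) : toVec (xiL al) = xiFun (toVec al) := by
  funext p
  have hp := ptIdx_lt p
  unfold xiL xiFun
  change ((List.range 24).map _).getD (ptIdx p) 0 = _
  rw [List.getD_eq_getElem _ _ (by simpa using hp)]
  simp only [List.getElem_map, List.getElem_range]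
  rw [← kap_val]
  by_cases hk : kap p = 0
  · have hk' : (kap p).val = 0 := by rw [hk]; rfl
    rw [if_pos hk', if_pos hk, hsum_toVec]
    rfl
  · have hk' : ¬ (kap p).val = 0 := fun e => hk (Fin.ext e)
    rw [if_neg hk', if_neg hk, hsum_toVec]
    rfl

/-! ### letters and words -/

/-- a letter: the automorphism of the partition, or a monomial automorphism given by the tables of
a permutation and of its inverse and the mask of a code word. -/
structure LLet where
  /-- whether the letter is the automorphism of the partition. -/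
  isXi : Bool
  /-- the table of the permutation. -/
  t : List ℕ
  /-- the table of the inverse permutation. -/
  t' : List ℕ
  /-- the mask of the code word. -/
  m : ℕ

/-- the check of a letter. -/
def letOK (l : LLet) : Bool :=
  l.isXi || (tblInvChk l.t l.t' && m24Chk l.t && codeList.contains l.m)

theorem suppM_mem_supports {m : ℕ} (hm : codeList.contains m = true) :
    suppM m ∈ supports (golayCode : Set (GolayPt → ZMod 2)) :=
  (mem_supports_iff _).2 ⟨m, List.contains_iff_mem.1 hm, rfl⟩

/-- the automorphism of a letter. -/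
def letEl (l : LLet) : Equiv.Perm ↥leechLattice :=
  if l.isXi = true then xiPerm
  else if h : tblInvChk l.t l.t' = true ∧ m24Chk l.t = true ∧ codeList.contains l.m = true then
    monoPerm (permOfTbl l.t l.t' h.1) (permOfTbl_mem l.t l.t' h.1 h.2.1) (suppM l.m)
      (suppM_mem_supports h.2.2)
  else 1

theorem letEl_mem (l : LLet) : letEl l ∈ Co0 := by
  unfold letEl
  split_ifs
  · exact xiPerm_mem
  · exact monoPerm_mem _ _ _ _
  · exact Co0.one_mem

/-- the image of a list of coordinates under a letter. -/
def letL (l : LLet) (al : List ℤ) : List ℤ := if l.isXi = true then xiL al else monoL l.t' l.m al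

theorem letEl_apply {l : LLet} (hl : letOK l = true) {x : ↥leechLattice} {al : List ℤ}
    (hx : (x : GolayPt → ℤ) = toVec al) : ((letEl l x : ↥leechLattice) : GolayPt → ℤ) =
      toVec (letL l al) := by
  unfold letEl letL
  by_cases h1 : l.isXi = true
  · rw [if_pos h1, if_pos h1, xiPerm_apply, hx, toVec_xiL]
  · rw [if_neg h1, if_neg h1]
    unfold letOK at hl
    have h2 : tblInvChk l.t l.t' = true ∧ m24Chk l.t = true ∧ codeList.contains l.m = true := by
      rw [Bool.or_eq_true] at hl
      rcases hl with hl | hl
      · exact absurd hl h1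
      · rw [Bool.and_eq_true, Bool.and_eq_true] at hl
        exact ⟨hl.1.1, hl.1.2, hl.2⟩
    rw [dif_pos h2, monoPerm_apply, hx, toVec_monoL l.t l.t' h2.1]

/-- the automorphism of a word. -/
def wordEl (w : List LLet) : Equiv.Perm ↥leechLattice := (w.map letEl).prod

theorem wordEl_mem (w : List LLet) : wordEl w ∈ Co0 := by
  apply Subgroup.list_prod_mem
  intro x hx
  obtain ⟨l, -, rfl⟩ := List.mem_map.1 hx
  exact letEl_mem l

/-- the image of a list of coordinates under a word. -/
def wordL (w : List LLet) (al : List ℤ) : List ℤ := w.foldr letL al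

theorem wordEl_apply {w : List LLet} (hw : ∀ l ∈ w, letOK l = true) {x : ↥leechLattice}
    {al : List ℤ} (hx : (x : GolayPt → ℤ) = toVec al) :
    ((wordEl w x : ↥leechLattice) : GolayPt → ℤ) = toVec (wordL w al) := by
  induction w with
  | nil => exact hx
  | cons l w ih =>
    have e : wordEl (l :: w) = letEl l * wordEl w := by
      unfold wordEl
      rw [List.map_cons, List.prod_cons]
    rw [e, Equiv.Perm.mul_apply]
    exact letEl_apply (hw l List.mem_cons_self) (ih (fun l' hl' => hw l' (List.mem_cons_of_mem _ hl')))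

end Cfsg.Agent.Helper9.LeechAct
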