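import Mathlib
import Cfsg.Agent.Helper9.LeechAct.Act
import Cfsg.Agent.Helper9.OutG.Grp

set_option autoImplicit false
set_option Elab.async false

/-!
From a group of automorphisms of the lattice of rank 24 to a group of permutations given by tables:
when the letters of the group of permutations are the actions of words in automorphisms of the
group on a list of vectors of the lattice, the order of the group of automorphisms is at most a
number, and the order of the group of permutations is at least this number, the two groups are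
isomorphic.
-/

noncomputable section

namespace Cfsg.Agent.Helper9.LeechAct

open Cfsg Cfsg.Agent.Helper9.Golay Cfsg.Agent.Helper9.Leech Cfsg.Agent.Helper9.OutG
open Cfsg.Agent.Helper9.J3

/-! ### the abstract lemma -/

/-- a subgroup of a product whose first projection is injective and whose second projection is
onto a subgroup at least as large as the first factor gives an isomorphism. -/
theorem equiv_of_graph {A B : Type*} [Group A] [Group B] [Finite A] (Γ : Subgroup (A × B))
    (h1 : ∀ x ∈ Γ, x.1 = 1 → x.2 = 1) (H : Subgroup B)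
    (hH : Γ.map (MonoidHom.snd A B) = H) (hcard : Nat.card A ≤ Nat.card H) :
    Nonempty (A ≃* H) ∧ Nat.card H = Nat.card A := by
  let f1 : Γ →* A := (MonoidHom.fst A B).comp Γ.subtype
  have hf1 : Function.Injective f1 := by
    rw [injective_iff_map_eq_one]
    intro x hx
    apply Subtype.ext
    apply Prod.ext
    · exact hx
    · exact h1 x.1 x.2 hx
  have : Finite Γ := Finite.of_injective f1 hf1
  let f2 : Γ →* H := ((MonoidHom.snd A B).comp Γ.subtype).codRestrict H (fun x => by
    rw [← hH]
    exact ⟨x.1, x.2, rfl⟩)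
  have hf2 : Function.Surjective f2 := by
    rintro ⟨y, hy⟩
    rw [← hH] at hy
    obtain ⟨x, hx, rfl⟩ := hy
    exact ⟨⟨x, hx⟩, rfl⟩
  have : Finite H := Finite.of_surjective f2 hf2
  have c1 : Nat.card Γ ≤ Nat.card A := Nat.card_le_card_of_injective f1 hf1
  have c2 : Nat.card H ≤ Nat.card Γ := Nat.card_le_card_of_surjective f2 hf2
  have e1 : Nat.card Γ = Nat.card A := by omega
  have e2 : Nat.card H = Nat.card Γ := by omega
  have b1 : Function.Bijective f1 :=
    (Nat.bijective_iff_injective_and_card f1).2 ⟨hf1, e1⟩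
  have b2 : Function.Bijective f2 :=
    (Nat.bijective_iff_surjective_and_card f2).2 ⟨hf2, e2.symm⟩
  refine ⟨⟨(MulEquiv.ofBijective f1 b1).symm.trans (MulEquiv.ofBijective f2 b2)⟩, ?_⟩
  omega

/-! ### the data -/

/-- the entry of a list of lists of integers with a given index. -/
def nthZ (l : List (List ℤ)) (i : ℕ) : List ℤ := l.getD i []

/-- the entry of a list of words with a given index. -/
def nthLW (l : List (List LLet)) (i : ℕ) : List LLet := l.getD i []

/-- the data: the words of the letters, the lists of coordinates of the vectors, the index of the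
first vector, the parents of the vectors and the letters that map them to the vectors, and the
depths of the vectors. -/
structure BrD where
  /-- the words of the letters. -/
  lws : List (List LLet)
  /-- the lists of coordinates of the vectors. -/
  pts : List (List ℤ)
  /-- the index of the first vector. -/
  rt : ℕ
  /-- the parents of the vectors. -/
  parJ : List ℕ
  /-- the letters that map the parents to the vectors. -/
  parL : List ℕ
  /-- the depths of the vectors. -/
  dp : List ℕ

/-- the checks. -/
structure BrOK (D : Dat) (Br : BrD) (fix : List (List ℤ)) : Prop where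
  /-- the letters of the words are good. -/
  hlet : Br.lws.all (fun w => w.all letOK) = true
  /-- the number of words. -/
  hlen : Br.lws.length = D.L
  /-- the action of the words on the vectors. -/
  hact : (List.range D.L).all (fun l => (List.range D.n).all (fun i =>
    wordL (nthLW Br.lws l) (nthZ Br.pts i) == nthZ Br.pts (T D l i))) = true
  /-- the words fix the vectors to be fixed. -/
  hfix : (List.range D.L).all (fun l => fix.all (fun f => wordL (nthLW Br.lws l) f == f)) = true
  /-- the parents. -/
  htree : (List.range D.n).all (fun i => (i == Br.rt) ||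
    (decide (Br.parJ.getD i 0 < D.n) && decide (Br.parL.getD i 0 < D.L) &&
      (T D (Br.parL.getD i 0) (Br.parJ.getD i 0) == i) &&
      decide (Br.dp.getD (Br.parJ.getD i 0) 0 < Br.dp.getD i 0))) = true
  /-- the lists of coordinates increase. -/
  hsrt : (List.range (D.n - 1)).all (fun i => decide (nthZ Br.pts i < nthZ Br.pts (i + 1))) = true

section bridge

variable {D : Dat} {C : ChainD} {N : ℕ} (h : Core D C N) {Br : BrD} {fix : List (List ℤ)}
  (hB : BrOK D Br fix)

include hB

theorem lws_ok {l : ℕ} : ∀ x ∈ nthLW Br.lws l, letOK x = true := by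
  intro x hx
  have h1 := hB.hlet
  rw [List.all_eq_true] at h1
  by_cases hl : l < Br.lws.length
  · have hm : nthLW Br.lws l ∈ Br.lws := by
      unfold nthLW
      rw [List.getD_eq_getElem _ _ hl]
      exact List.getElem_mem hl
    have h2 := h1 _ hm
    rw [List.all_eq_true] at h2
    exact h2 x hx
  · unfold nthLW at hx
    rw [List.getD_eq_default _ _ (by omega)] at hx
    exact absurd hx List.not_mem_nil

/-- the automorphism of a letter. -/
def gL (Br : BrD) (l : ℕ) : Equiv.Perm ↥leechLattice := wordEl (nthLW Br.lws l)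

theorem gL_apply {l : ℕ} {x : ↥leechLattice} {al : List ℤ} (hx : (x : GolayPt → ℤ) = toVec al) :
    ((gL Br l x : ↥leechLattice) : GolayPt → ℤ) = toVec (wordL (nthLW Br.lws l) al) :=
  wordEl_apply (lws_ok hB) hx

theorem act_eq {l i : ℕ} (hl : l < D.L) (hi : i < D.n) :
    wordL (nthLW Br.lws l) (nthZ Br.pts i) = nthZ Br.pts (T D l i) := by
  have h1 := hB.hact
  rw [List.all_eq_true] at h1
  have h2 := h1 l (List.mem_range.2 hl)
  rw [List.all_eq_true] at h2
  have h3 := h2 i (List.mem_range.2 hi)
  exact beq_iff_eq.1 h3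

/-- the lists of coordinates are those of vectors of the lattice. -/
theorem exists_pt (x0 : ↥leechLattice) (hx0 : (x0 : GolayPt → ℤ) = toVec (nthZ Br.pts Br.rt))
    (i : ℕ) (hi : i < D.n) : ∃ x : ↥leechLattice, (x : GolayPt → ℤ) = toVec (nthZ Br.pts i) := by
  induction hd : Br.dp.getD i 0 using Nat.strong_induction_on generalizing i with
  | _ d ih =>
    have h1 := hB.htree
    rw [List.all_eq_true] at h1
    have h2 := h1 i (List.mem_range.2 hi)
    rw [Bool.or_eq_true] at h2
    rcases h2 with h2 | h2
    · rw [beq_iff_eq] at h2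
      rw [h2]
      exact ⟨x0, hx0⟩
    · simp only [Bool.and_eq_true, decide_eq_true_eq, beq_iff_eq] at h2
      obtain ⟨⟨⟨h3, h4⟩, h5⟩, h6⟩ := h2
      obtain ⟨y, hy⟩ := ih _ (by rw [← hd]; exact h6) _ h3 rfl
      refine ⟨gL Br (Br.parL.getD i 0) y, ?_⟩
      rw [gL_apply hB hy, act_eq hB h4 h3, h5]

theorem pts_lt {i j : ℕ} (hij : i < j) (hj : j < D.n) : nthZ Br.pts i < nthZ Br.pts j := by
  induction j with
  | zero => omega
  | succ j ih =>
    have h1 := hB.hsrt
    rw [List.all_eq_true] at h1
    have h2 := h1 j (List.mem_range.2 (by omega))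
    rw [decide_eq_true_eq] at h2
    rcases Nat.lt_succ_iff_lt_or_eq.1 hij with h3 | h3
    · exact lt_trans (ih h3 (by omega)) h2
    · rw [h3]
      exact h2

theorem pts_inj {i j : ℕ} (hi : i < D.n) (hj : j < D.n) (he : nthZ Br.pts i = nthZ Br.pts j) :
    i = j := by
  rcases lt_trichotomy i j with h1 | h1 | h1
  · exact absurd he (ne_of_lt (pts_lt hB h1 hj))
  · exact h1
  · exact absurd he.symm (ne_of_lt (pts_lt hB h1 hi))

omit hB in
theorem toVec_inj {al bl : List ℤ} (ha : al.length = 24) (hb : bl.length = 24)
    (he : toVec al = toVec bl) : al = bl := by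
  rw [← pts_map_toVec al ha, ← pts_map_toVec bl hb, he]

/-- the main statement. -/
theorem bridge (K : Subgroup (Equiv.Perm ↥leechLattice)) [Finite K] (hKN : Nat.card K ≤ N)
    (F : List (↥leechLattice × List ℤ)) (hF : ∀ f ∈ F, (f.1 : GolayPt → ℤ) = toVec f.2)
    (hfix : fix = F.map Prod.snd) (hlen24 : ∀ f ∈ F, f.2.length = 24)
    (hK : ∀ g ∈ Co0, (∀ f ∈ F, g f.1 = f.1) → g ∈ K)
    (x0 : ↥leechLattice) (hx0 : (x0 : GolayPt → ℤ) = toVec (nthZ Br.pts Br.rt))
    (hp24 : ∀ i < D.n, (nthZ Br.pts i).length = 24) :
    Nonempty (↥K ≃* ↥(GS h)) ∧ Nat.card ↥(GS h) = N := by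
  classical
  -- the vectors
  have hex := exists_pt hB x0 hx0
  let pt : Fin D.n → ↥leechLattice := fun i => Classical.choose (hex i.val i.isLt)
  have hpt : ∀ i : Fin D.n, ((pt i : ↥leechLattice) : GolayPt → ℤ) = toVec (nthZ Br.pts i.val) :=
    fun i => Classical.choose_spec (hex i.val i.isLt)
  have hptinj : Function.Injective pt := by
    intro i j hij
    apply Fin.ext
    apply pts_inj hB i.isLt j.isLt
    apply toVec_inj (hp24 _ i.isLt) (hp24 _ j.isLt)
    rw [← hpt, ← hpt, hij]
  -- the automorphisms of the letters are in the group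
  have hgK : ∀ l, l < D.L → gL Br l ∈ K := by
    intro l hl
    apply hK _ (wordEl_mem _)
    intro f hf
    apply Subtype.ext
    have e := gL_apply hB (l := l) (hF f hf)
    have h1 := hB.hfix
    rw [List.all_eq_true] at h1
    have h2 := h1 l (List.mem_range.2 hl)
    rw [List.all_eq_true] at h2
    have h3 := h2 f.2 (by rw [hfix]; exact List.mem_map.2 ⟨f, hf, rfl⟩)
    rw [beq_iff_eq.1 h3, ← hF f hf] at e
    exact e
  -- the action of the automorphisms of the letters
  have hgact : ∀ l (hl : l < D.L) (i : Fin D.n), gL Br l (pt i) = pt (El D h.tab l i) := by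
    intro l hl i
    apply Subtype.ext
    rw [gL_apply hB (hpt i), act_eq hB hl i.isLt, hpt]
    rfl
  -- the subgroup of the product
  let R : Subgroup (↥K × Equiv.Perm (Fin D.n)) :=
    { carrier := {x | ∀ i : Fin D.n, x.1.1 (pt i) = pt (x.2 i)}
      one_mem' := fun _ => rfl
      mul_mem' := by
        intro x y hx hy i
        change x.1.1 (y.1.1 (pt i)) = pt (x.2 (y.2 i))
        rw [hy i, hx]
      inv_mem' := by
        intro x hx i
        change x.1.1⁻¹ (pt i) = pt (x.2⁻¹ i)
        rw [Equiv.Perm.inv_eq_iff_eq, hx]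
        congr 1
        exact ((x.2).apply_symm_apply i).symm }
  let gens : Set (↥K × Equiv.Perm (Fin D.n)) :=
    {x | ∃ (l : ℕ) (hl : l < D.L), x = (⟨gL Br l, hgK l hl⟩, El D h.tab l)}
  let Γ : Subgroup (↥K × Equiv.Perm (Fin D.n)) := Subgroup.closure gens
  have hΓR : Γ ≤ R := by
    rw [Subgroup.closure_le]
    rintro x ⟨l, hl, rfl⟩ i
    exact hgact l hl i
  have h1 : ∀ x ∈ Γ, x.1 = 1 → x.2 = 1 := by
    intro x hx hx1
    have h2 := hΓR hx
    apply Equiv.ext
    intro i
    have h3 := h2 i
    rw [hx1] at h3
    exact (hptinj h3).symm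
  have hmap : Γ.map (MonoidHom.snd ↥K (Equiv.Perm (Fin D.n))) = GS h := by
    rw [MonoidHom.map_closure]
    congr 1
    ext y
    constructor
    · rintro ⟨x, ⟨l, hl, rfl⟩, rfl⟩
      exact ⟨⟨l, hl⟩, rfl⟩
    · rintro ⟨l, rfl⟩
      exact ⟨_, ⟨l.val, l.isLt, rfl⟩, rfl⟩
  have hcard : Nat.card ↥K ≤ Nat.card ↥(GS h) := le_trans hKN (card_ge h)
  obtain ⟨e, hc⟩ := equiv_of_graph Γ h1 (GS h) hmap hcard
  refine ⟨e, ?_⟩
  have := card_ge h
  omega

end bridge

end Cfsg.Agent.Helper9.LeechAct

end
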