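import Mathlib
import Cfsg.Agent.Helper9.LeechAct.Bridge

set_option autoImplicit false
set_option Elab.async false

/-!
The bridge from a group of automorphisms of the lattice of rank 24 to a group of permutations
given by tables, with the vectors, their parents and their depths given by functions of the index
(packed arrays), for large degrees.
-/

noncomputable section

namespace Cfsg.Agent.Helper9.LeechAct

open Cfsg Cfsg.Agent.Helper9.Golay Cfsg.Agent.Helper9.Leech Cfsg.Agent.Helper9.OutG
open Cfsg.Agent.Helper9.J3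

/-- a packed array: the width of an entry, its mask, the number of bits of the index inside a
leaf, its mask, and the tree of the leaves. -/
structure PArr where
  /-- the width of an entry. -/
  w : ℕ
  /-- the mask of an entry. -/
  msk : ℕ
  /-- the number of bits of the index inside a leaf. -/
  s : ℕ
  /-- the mask of the index inside a leaf. -/
  sm : ℕ
  /-- the tree of the leaves. -/
  tree : NTree

/-- the entry of a packed array. -/
def PArr.get (A : PArr) (i : ℕ) : ℕ :=
  Nat.land (Nat.shiftRight (tget A.tree (Nat.shiftRight i A.s)) (Nat.mul A.w (Nat.land i A.sm)))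
    A.msk

/-- the list of coordinates of a packed vector: 24 entries of 4 bits, shifted by 8. -/
def decPt (c : ℕ) : List ℤ :=
  (List.range 24).map (fun t => Int.ofNat (Nat.land (Nat.shiftRight c (4 * t)) 15) - 8)

theorem decPt_length (c : ℕ) : (decPt c).length = 24 := by
  unfold decPt
  rw [List.length_map, List.length_range]

/-! ### the data -/

/-- the data: the words of the letters, the packed vectors, the index of the first vector, the
parents of the vectors and the letters that map them to the vectors, and the depths of the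
vectors. -/
structure BrF where
  /-- the words of the letters. -/
  lws : List (List LLet)
  /-- the packed vectors. -/
  pts : PArr
  /-- the index of the first vector. -/
  rt : ℕ
  /-- the parents of the vectors. -/
  parJ : PArr
  /-- the letters that map the parents to the vectors. -/
  parL : PArr
  /-- the depths of the vectors. -/
  dp : PArr

/-- the list of coordinates of a vector. -/
def BrF.pt (Br : BrF) (i : ℕ) : List ℤ := decPt (Br.pts.get i)

/-- the checks. -/
structure BrFOK (D : Dat) (Br : BrF) (fix : List (List ℤ)) : Prop where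
  /-- the letters of the words are good. -/
  hlet : Br.lws.all (fun w => w.all letOK) = true
  /-- the action of the words on the vectors. -/
  hact : ∀ l < D.L, ∀ i < D.n, (wordL (nthLW Br.lws l) (Br.pt i) == Br.pt (T D l i)) = true
  /-- the words fix the vectors to be fixed. -/
  hfix : (List.range D.L).all (fun l => fix.all (fun f => wordL (nthLW Br.lws l) f == f)) = true
  /-- the parents. -/
  htree : ∀ i < D.n, ((i == Br.rt) ||
    (decide (Br.parJ.get i < D.n) && decide (Br.parL.get i < D.L) &&
      (T D (Br.parL.get i) (Br.parJ.get i) == i) &&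
      decide (Br.dp.get (Br.parJ.get i) < Br.dp.get i))) = true
  /-- the lists of coordinates increase. -/
  hsrt : ∀ i < D.n - 1, decide (Br.pt i < Br.pt (i + 1)) = true

/-- the check of the action of a letter on a vector, the two given by one number. -/
def actChk (D : Dat) (Br : BrF) (v : ℕ) : Bool :=
  wordL (nthLW Br.lws (Nat.div v D.n)) (Br.pt (Nat.mod v D.n)) ==
    Br.pt (T D (Nat.div v D.n) (Nat.mod v D.n))

/-- the check of the parent of a vector. -/
def treeChk (D : Dat) (Br : BrF) (i : ℕ) : Bool :=
  (i == Br.rt) ||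
    (decide (Br.parJ.get i < D.n) && decide (Br.parL.get i < D.L) &&
      (T D (Br.parL.get i) (Br.parJ.get i) == i) &&
      decide (Br.dp.get (Br.parJ.get i) < Br.dp.get i))

/-- the check that the list of coordinates of a vector is less than the next one. -/
def srtChk (Br : BrF) (i : ℕ) : Bool := decide (Br.pt i < Br.pt (i + 1))

theorem brFOK_of_chk {D : Dat} {Br : BrF} {fix : List (List ℤ)}
    (hlet : Br.lws.all (fun w => w.all letOK) = true)
    (hact : ∀ v < D.L * D.n, actChk D Br v = true)
    (hfix : (List.range D.L).all (fun l => fix.all (fun f => wordL (nthLW Br.lws l) f == f)) = true)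
    (htree : ∀ i < D.n, treeChk D Br i = true)
    (hsrt : ∀ i < D.n - 1, srtChk Br i = true) : BrFOK D Br fix := by
  refine ⟨hlet, ?_, hfix, htree, hsrt⟩
  intro l hl i hi
  have hv : l * D.n + i < D.L * D.n := by
    have : (l + 1) * D.n ≤ D.L * D.n := Nat.mul_le_mul_right _ hl
    rw [Nat.add_mul, Nat.one_mul] at this
    omega
  have h1 := hact _ hv
  unfold actChk at h1
  have e1 : Nat.div (l * D.n + i) D.n = l := by
    change (l * D.n + i) / D.n = l
    rw [Nat.add_comm, Nat.add_mul_div_right _ _ (by omega), Nat.div_eq_of_lt hi, Nat.zero_add]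
  have e2 : Nat.mod (l * D.n + i) D.n = i := by
    change (l * D.n + i) % D.n = i
    rw [Nat.add_comm, Nat.add_mul_mod_self_right, Nat.mod_eq_of_lt hi]
  rw [e1, e2] at h1
  exact h1

section bridge

variable {D : Dat} {C : ChainD} {N : ℕ} (h : Core D C N) {Br : BrF} {fix : List (List ℤ)}
  (hB : BrFOK D Br fix)

include hB

theorem lwsF_ok {l : ℕ} : ∀ x ∈ nthLW Br.lws l, letOK x = true := by
  intro x hx
  have h1 := hB.hlet
  rw [List.all_eq_true] at h1
  by_cases hl : l < Br.lws.length
  · have hm : nthLW Br.lws l ∈ Br.lws := by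
      unfold nthLW
      rw [List.getD_eq_getElem _ _ hl]
      exact List.getElem_mem hl
    have h2 := h1 _ hm
    rw [List.all_eq_true] at h2
    exact h2 x hx
  · unfold nthLW at hx
    rw [List.getD_eq_default _ _ (by omega)] at hx
    exact absurd hx List.not_mem_nil

/-- the automorphism of a letter. -/
def gLF (Br : BrF) (l : ℕ) : Equiv.Perm ↥leechLattice := wordEl (nthLW Br.lws l)

theorem gLF_apply {l : ℕ} {x : ↥leechLattice} {al : List ℤ} (hx : (x : GolayPt → ℤ) = toVec al) :
    ((gLF Br l x : ↥leechLattice) : GolayPt → ℤ) = toVec (wordL (nthLW Br.lws l) al) :=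
  wordEl_apply (lwsF_ok hB) hx

theorem actF_eq {l i : ℕ} (hl : l < D.L) (hi : i < D.n) :
    wordL (nthLW Br.lws l) (Br.pt i) = Br.pt (T D l i) :=
  beq_iff_eq.1 (hB.hact l hl i hi)

/-- the lists of coordinates are those of vectors of the lattice. -/
theorem existsF_pt (x0 : ↥leechLattice) (hx0 : (x0 : GolayPt → ℤ) = toVec (Br.pt Br.rt))
    (i : ℕ) (hi : i < D.n) : ∃ x : ↥leechLattice, (x : GolayPt → ℤ) = toVec (Br.pt i) := by
  induction hd : Br.dp.get i using Nat.strong_induction_on generalizing i with
  | _ d ih =>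
    have h2 := hB.htree i hi
    rw [Bool.or_eq_true] at h2
    rcases h2 with h2 | h2
    · rw [beq_iff_eq] at h2
      rw [h2]
      exact ⟨x0, hx0⟩
    · simp only [Bool.and_eq_true, decide_eq_true_eq, beq_iff_eq] at h2
      obtain ⟨⟨⟨h3, h4⟩, h5⟩, h6⟩ := h2
      obtain ⟨y, hy⟩ := ih _ (by rw [← hd]; exact h6) _ h3 rfl
      refine ⟨gLF Br (Br.parL.get i) y, ?_⟩
      rw [gLF_apply hB hy, actF_eq hB h4 h3, h5]

theorem ptsF_lt {i j : ℕ} (hij : i < j) (hj : j < D.n) : Br.pt i < Br.pt j := by
  induction j with
  | zero => omega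
  | succ j ih =>
    have h2 := hB.hsrt j (by omega)
    rw [decide_eq_true_eq] at h2
    rcases Nat.lt_succ_iff_lt_or_eq.1 hij with h3 | h3
    · exact lt_trans (ih h3 (by omega)) h2
    · rw [h3]
      exact h2

theorem ptsF_inj {i j : ℕ} (hi : i < D.n) (hj : j < D.n) (he : Br.pt i = Br.pt j) :
    i = j := by
  rcases lt_trichotomy i j with h1 | h1 | h1
  · exact absurd he (ne_of_lt (ptsF_lt hB h1 hj))
  · exact h1
  · exact absurd he.symm (ne_of_lt (ptsF_lt hB h1 hi))

/-- the main statement. -/
theorem bridgeF (K : Subgroup (Equiv.Perm ↥leechLattice)) [Finite K] (hKN : Nat.card K ≤ N)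
    (F : List (↥leechLattice × List ℤ)) (hF : ∀ f ∈ F, (f.1 : GolayPt → ℤ) = toVec f.2)
    (hfix : fix = F.map Prod.snd) (hlen24 : ∀ f ∈ F, f.2.length = 24)
    (hK : ∀ g ∈ Co0, (∀ f ∈ F, g f.1 = f.1) → g ∈ K)
    (x0 : ↥leechLattice) (hx0 : (x0 : GolayPt → ℤ) = toVec (Br.pt Br.rt)) :
    Nonempty (↥K ≃* ↥(GS h)) ∧ Nat.card ↥(GS h) = N := by
  classical
  -- the vectors
  have hex := existsF_pt hB x0 hx0
  let pt : Fin D.n → ↥leechLattice := fun i => Classical.choose (hex i.val i.isLt)
  have hpt : ∀ i : Fin D.n, ((pt i : ↥leechLattice) : GolayPt → ℤ) = toVec (Br.pt i.val) :=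
    fun i => Classical.choose_spec (hex i.val i.isLt)
  have hptinj : Function.Injective pt := by
    intro i j hij
    apply Fin.ext
    apply ptsF_inj hB i.isLt j.isLt
    refine toVec_inj (al := Br.pt i.val) (bl := Br.pt j.val) (decPt_length _) (decPt_length _) ?_
    rw [← hpt, ← hpt, hij]
  -- the automorphisms of the letters are in the group
  have hgK : ∀ l, l < D.L → gLF Br l ∈ K := by
    intro l hl
    apply hK _ (wordEl_mem _)
    intro f hf
    apply Subtype.ext
    have e := gLF_apply hB (l := l) (hF f hf)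
    have h1 := hB.hfix
    rw [List.all_eq_true] at h1
    have h2 := h1 l (List.mem_range.2 hl)
    rw [List.all_eq_true] at h2
    have h3 := h2 f.2 (by rw [hfix]; exact List.mem_map.2 ⟨f, hf, rfl⟩)
    rw [beq_iff_eq.1 h3, ← hF f hf] at e
    exact e
  -- the action of the automorphisms of the letters
  have hgact : ∀ l (hl : l < D.L) (i : Fin D.n), gLF Br l (pt i) = pt (El D h.tab l i) := by
    intro l hl i
    apply Subtype.ext
    rw [gLF_apply hB (hpt i), actF_eq hB hl i.isLt, hpt]
    rfl
  -- the subgroup of the product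
  let R : Subgroup (↥K × Equiv.Perm (Fin D.n)) :=
    { carrier := {x | ∀ i : Fin D.n, x.1.1 (pt i) = pt (x.2 i)}
      one_mem' := fun _ => rfl
      mul_mem' := by
        intro x y hx hy i
        change x.1.1 (y.1.1 (pt i)) = pt (x.2 (y.2 i))
        rw [hy i, hx]
      inv_mem' := by
        intro x hx i
        change x.1.1⁻¹ (pt i) = pt (x.2⁻¹ i)
        rw [Equiv.Perm.inv_eq_iff_eq, hx]
        congr 1
        exact ((x.2).apply_symm_apply i).symm }
  let gens : Set (↥K × Equiv.Perm (Fin D.n)) :=
    {x | ∃ (l : ℕ) (hl : l < D.L), x = (⟨gLF Br l, hgK l hl⟩, El D h.tab l)}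
  let Γ : Subgroup (↥K × Equiv.Perm (Fin D.n)) := Subgroup.closure gens
  have hΓR : Γ ≤ R := by
    rw [Subgroup.closure_le]
    rintro x ⟨l, hl, rfl⟩ i
    exact hgact l hl i
  have h1 : ∀ x ∈ Γ, x.1 = 1 → x.2 = 1 := by
    intro x hx hx1
    have h2 := hΓR hx
    apply Equiv.ext
    intro i
    have h3 := h2 i
    rw [hx1] at h3
    exact (hptinj h3).symm
  have hmap : Γ.map (MonoidHom.snd ↥K (Equiv.Perm (Fin D.n))) = GS h := by
    rw [MonoidHom.map_closure]
    congr 1
    ext y
    constructor
    · rintro ⟨x, ⟨l, hl, rfl⟩, rfl⟩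
      exact ⟨⟨l, hl⟩, rfl⟩
    · rintro ⟨l, rfl⟩
      exact ⟨_, ⟨l.val, l.isLt, rfl⟩, rfl⟩
  have hcard : Nat.card ↥K ≤ Nat.card ↥(GS h) := le_trans hKN (card_ge h)
  obtain ⟨e, hc⟩ := equiv_of_graph Γ h1 (GS h) hmap hcard
  refine ⟨e, ?_⟩
  have := card_ge h
  omega

end bridge

end Cfsg.Agent.Helper9.LeechAct

end
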