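import Mathlib
import Cfsg.Agent.Helper9.LeechAct.Bridge2
import Cfsg.Agent.Helper9.Leech.Monomial

set_option autoImplicit false

/-!
The action of an automorphism of the lattice of rank 24 on a vector computed from the images of
the 24 vectors with one coordinate 8, as the automorphism is additive: a list of integers is
recorded by its value in base 65536, which is additive in the list and determines bounded lists.
-/

namespace Cfsg.Agent.Helper9.LeechAct

open Cfsg Cfsg.Agent.Helper9.Golay Cfsg.Agent.Helper9.Leech Cfsg.Agent.Helper9.OutG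

/-- the value of a list of integers in base 65536. -/
def PZ (l : List ℤ) : ℤ := l.foldr (fun a acc => a + 65536 * acc) 0

theorem PZ_cons (a : ℤ) (l : List ℤ) : PZ (a :: l) = a + 65536 * PZ l := rfl

theorem PZ_nil : PZ [] = 0 := rfl

/-- the value determines a list with bounded entries. -/
theorem PZ_inj : ∀ (A B : List ℤ), A.length = B.length → (∀ a ∈ A, |a| ≤ 1000) →
    (∀ b ∈ B, |b| ≤ 1000) → PZ A = PZ B → A = B
  | [], [], _, _, _, _ => rfl
  | [], _ :: _, h, _, _, _ => by simp at h
  | _ :: _, [], h, _, _, _ => by simp at h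
  | a :: A, b :: B, h, hA, hB, he => by
    have ha := hA a List.mem_cons_self
    have hb := hB b List.mem_cons_self
    rw [PZ_cons, PZ_cons] at he
    rw [abs_le] at ha hb
    have e1 : a = b := by omega
    have e2 : PZ A = PZ B := by omega
    rw [e1, PZ_inj A B (by simpa using h) (fun x hx => hA x (List.mem_cons_of_mem _ hx))
      (fun x hx => hB x (List.mem_cons_of_mem _ hx)) e2]

/-- the value of the list of the coordinates of a vector. -/
def PF (f : GolayPt → ℤ) : ℤ := PZ (pts.map f)

theorem PZ_map_add {α : Type} (L : List α) (f g : α → ℤ) :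
    PZ (L.map (fun q => f q + g q)) = PZ (L.map f) + PZ (L.map g) := by
  induction L with
  | nil => rfl
  | cons a L ih =>
    rw [List.map_cons, List.map_cons, List.map_cons, PZ_cons, PZ_cons, PZ_cons, ih]
    ring

theorem PZ_map_mul {α : Type} (L : List α) (c : ℤ) (f : α → ℤ) :
    PZ (L.map (fun q => c * f q)) = c * PZ (L.map f) := by
  induction L with
  | nil => simp [PZ_nil]
  | cons a L ih =>
    rw [List.map_cons, List.map_cons, PZ_cons, PZ_cons, ih]
    ring

theorem PZ_map_zero {α : Type} (L : List α) : PZ (L.map (fun _ => (0 : ℤ))) = 0 := by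
  induction L with
  | nil => rfl
  | cons a L ih =>
    rw [List.map_cons, PZ_cons, ih]
    ring

theorem PF_add (f g : GolayPt → ℤ) : PF (fun q => f q + g q) = PF f + PF g := PZ_map_add pts f g

theorem PF_mul (c : ℤ) (f : GolayPt → ℤ) : PF (fun q => c * f q) = c * PF f := PZ_map_mul pts c f

theorem PF_sum {ι : Type} (s : Finset ι) (c : ι → ℤ) (F : ι → GolayPt → ℤ) :
    PF (fun q => ∑ p ∈ s, c p * F p q) = ∑ p ∈ s, c p * PF (F p) := by
  classical
  induction s using Finset.induction_on with
  | empty =>
    simp only [Finset.sum_empty]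
    exact PZ_map_zero pts
  | insert a s ha ih =>
    have e : (fun q => ∑ p ∈ insert a s, c p * F p q) =
        fun q => c a * F a q + ∑ p ∈ s, c p * F p q := by
      funext q
      rw [Finset.sum_insert ha]
    rw [e, PF_add, PF_mul, ih, Finset.sum_insert ha]

theorem PF_toVec (al : List ℤ) (hal : al.length = 24) : PF (toVec al) = PZ al := by
  unfold PF
  rw [pts_map_toVec al hal]

theorem PF_inj (f g : GolayPt → ℤ) (hf : ∀ q, |f q| ≤ 1000) (hg : ∀ q, |g q| ≤ 1000)
    (h : PF f = PF g) : f = g := by
  have h1 := PZ_inj (pts.map f) (pts.map g) (by rw [List.length_map, List.length_map])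
    (by
      intro a ha
      obtain ⟨q, -, rfl⟩ := List.mem_map.1 ha
      exact hf q)
    (by
      intro a ha
      obtain ⟨q, -, rfl⟩ := List.mem_map.1 ha
      exact hg q) h
  funext q
  exact List.map_inj_left.1 h1 q (mem_pts q)

/-- the sum of the products of the entries of two lists. -/
def dotL (xs cs : List ℤ) : ℤ := (List.zipWith (fun a b => a * b) xs cs).sum

theorem toVec_mkPt (al : List ℤ) {i : ℕ} (hi : i < 24) : toVec al (mkPt i) = al.getD i 0 := by
  unfold toVec
  rw [ptIdx_mkPt i hi]

theorem sum_toVec_mul (xs cs : List ℤ) (hx : xs.length = 24) (hc : cs.length = 24) :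
    ∑ p, toVec xs p * toVec cs p = dotL xs cs := by
  rw [sum_univ_eq]
  congr 1
  unfold pts
  rw [List.map_map]
  apply List.ext_getElem
  · rw [List.length_map, List.length_range, List.length_zipWith, hx, hc]
    rfl
  · intro i h1 h2
    rw [List.length_map, List.length_range] at h1
    rw [List.getElem_map, List.getElem_range, List.getElem_zipWith]
    simp only [Function.comp_apply]
    rw [toVec_mkPt xs h1, toVec_mkPt cs h1, List.getD_eq_getElem _ _ (by omega),
      List.getD_eq_getElem _ _ (by omega)]

/-- the list of the coordinates of the vector with one coordinate 8. -/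
def e8L (k : ℕ) : List ℤ := (List.range 24).map (fun i => if i = k then 8 else 0)

theorem e8_coe : ∀ p : GolayPt, ∀ q : GolayPt,
    toVec (e8L (ptIdx p)) q = if q = p then 8 else 0 := by decide

theorem e8_coe' (p : GolayPt) : ((e8 p : ↥leechLattice) : GolayPt → ℤ) = toVec (e8L (ptIdx p)) := by
  funext q
  rw [e8_apply, e8_coe]

/-- the entries of the list of coordinates of a packed vector are bounded. -/
theorem decPt_bound (c : ℕ) : ∀ a ∈ decPt c, -8 ≤ a ∧ a ≤ 7 := by
  intro a ha
  unfold decPt at ha
  obtain ⟨t, -, rfl⟩ := List.mem_map.1 ha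
  have h1 : Nat.land (Nat.shiftRight c (4 * t)) 15 ≤ 15 := Nat.and_le_right
  have h2 : ((Nat.land (Nat.shiftRight c (4 * t)) 15 : ℕ) : ℤ) ≤ 15 := by exact_mod_cast h1
  have h3 : (0 : ℤ) ≤ ((Nat.land (Nat.shiftRight c (4 * t)) 15 : ℕ) : ℤ) := Int.natCast_nonneg _
  change -8 ≤ ((Nat.land (Nat.shiftRight c (4 * t)) 15 : ℕ) : ℤ) - 8 ∧
    ((Nat.land (Nat.shiftRight c (4 * t)) 15 : ℕ) : ℤ) - 8 ≤ 7
  constructor <;> omega

theorem toVec_bound {al : List ℤ} {lo hi : ℤ} (h : ∀ a ∈ al, lo ≤ a ∧ a ≤ hi) (h0 : lo ≤ 0)
    (h1 : 0 ≤ hi) (q : GolayPt) : lo ≤ toVec al q ∧ toVec al q ≤ hi := by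
  unfold toVec
  by_cases hq : ptIdx q < al.length
  · rw [List.getD_eq_getElem _ _ hq]
    exact h _ (List.getElem_mem hq)
  · rw [List.getD_eq_default _ _ (by omega)]
    exact ⟨h0, h1⟩

end Cfsg.Agent.Helper9.LeechAct
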