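import Mathlib
import Cfsg.Agent.Helper9.LeechAct.Bridge
import Cfsg.Agent.Helper9.Leech.Order
import Cfsg.Agent.Helper9.Leech.HS

set_option autoImplicit false

/-!
Subgroups of the group of permutations of the lattice of rank 24 given by the automorphisms that
fix some vectors, compared with the stabilizers in the group of automorphisms.
-/

namespace Cfsg.Agent.Helper9.LeechAct

open Cfsg Cfsg.Agent.Helper9.Golay Cfsg.Agent.Helper9.Leech

/-- a subgroup of the permutations whose elements give elements of a finite subgroup of the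
automorphisms is finite and at most as large. -/
theorem finite_card_le {K : Subgroup (Equiv.Perm ↥leechLattice)} {H : Subgroup ↥Co0} {N : ℕ}
    (hN0 : N ≠ 0) (hN : Nat.card ↥H = N)
    (hK : ∀ g ∈ K, ∃ h0 : g ∈ Co0, (⟨g, h0⟩ : ↥Co0) ∈ H) : Finite ↥K ∧ Nat.card ↥K ≤ N := by
  have hfin : Finite ↥H := Nat.finite_of_card_ne_zero (by rw [hN]; exact hN0)
  let f : ↥K → ↥H := fun g => ⟨⟨g.1, (hK g.1 g.2).choose⟩, (hK g.1 g.2).choose_spec⟩
  have hf : Function.Injective f := by
    intro a b hab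
    apply Subtype.ext
    have := congrArg (fun x : ↥H => (x.1.1 : Equiv.Perm ↥leechLattice)) hab
    exact this
  have hK' : Finite ↥K := Finite.of_injective f hf
  refine ⟨hK', ?_⟩
  rw [← hN]
  exact Nat.card_le_card_of_injective f hf

/-- an automorphism that fixes two vectors fixes the opposite of their sum. -/
theorem fix_neg_sum (g : ↥Co0) (a b : ↥leechLattice) (ha : g • a = a) (hb : g • b = b) :
    g • (0 - a - b) = 0 - a - b := by
  rw [smul_sub', smul_sub', smul_zero', ha, hb]

/-- the elements of a subgroup that are automorphisms and fix two vectors are in the stabilizers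
of the first vector and of the opposite of the sum. -/
theorem joint_mem {K : Subgroup (Equiv.Perm ↥leechLattice)} (a b : ↥leechLattice)
    (hK : ∀ g ∈ K, g ∈ Co0 ∧ g a = a ∧ g b = b) :
    ∀ g ∈ K, ∃ h0 : g ∈ Co0, (⟨g, h0⟩ : ↥Co0) ∈
      MulAction.stabilizer ↥Co0 a ⊓ MulAction.stabilizer ↥Co0 (0 - a - b) := by
  intro g hg
  obtain ⟨h0, h1, h2⟩ := hK g hg
  refine ⟨h0, ?_⟩
  have e1 : (⟨g, h0⟩ : ↥Co0) • a = a := h1
  have e2 : (⟨g, h0⟩ : ↥Co0) • b = b := h2
  rw [Subgroup.mem_inf, MulAction.mem_stabilizer_iff, MulAction.mem_stabilizer_iff]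
  exact ⟨e1, fix_neg_sum _ a b e1 e2⟩

/-- the elements of a subgroup that are automorphisms and fix a vector are in its stabilizer. -/
theorem single_mem {K : Subgroup (Equiv.Perm ↥leechLattice)} (a : ↥leechLattice)
    (hK : ∀ g ∈ K, g ∈ Co0 ∧ g a = a) :
    ∀ g ∈ K, ∃ h0 : g ∈ Co0, (⟨g, h0⟩ : ↥Co0) ∈ MulAction.stabilizer ↥Co0 a := by
  intro g hg
  obtain ⟨h0, h1⟩ := hK g hg
  refine ⟨h0, ?_⟩
  rw [MulAction.mem_stabilizer_iff]
  exact h1

end Cfsg.Agent.Helper9.LeechAct
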