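import Mathlib
import Cfsg.Agent.Helper9.LeechAct.Lin

set_option autoImplicit false
set_option Elab.async false

/-!
The bridge from a group of automorphisms of the lattice of rank 24 to a group of permutations
given by tables, the action of the letters on the vectors being checked through the images of the
24 vectors with one coordinate 8.
-/

noncomputable section

namespace Cfsg.Agent.Helper9.LeechAct

open Cfsg Cfsg.Agent.Helper9.Golay Cfsg.Agent.Helper9.Leech Cfsg.Agent.Helper9.OutG
open Cfsg.Agent.Helper9.J3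

/-! ### the abstract statement -/

/-- a group of permutations of a type and a group of permutations given by tables, with elements
of the first group that act on an injective family of points as the letters act on the indices:
if the first group has at most as many elements as the chain of the second gives, the two groups
are isomorphic. -/
theorem bridge_abs {Ω : Type*} {D : Dat} {C : ChainD} {N : ℕ} (h : Core D C N)
    (K : Subgroup (Equiv.Perm Ω)) [Finite K] (hKN : Nat.card K ≤ N)
    (pt : Fin D.n → Ω) (hptinj : Function.Injective pt) (gl : ℕ → Equiv.Perm Ω)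
    (hgK : ∀ l, l < D.L → gl l ∈ K)
    (hgact : ∀ l (_ : l < D.L) (i : Fin D.n), gl l (pt i) = pt (El D h.tab l i)) :
    Nonempty (↥K ≃* ↥(GS h)) ∧ Nat.card ↥(GS h) = N := by
  classical
  let R : Subgroup (↥K × Equiv.Perm (Fin D.n)) :=
    { carrier := {x | ∀ i : Fin D.n, x.1.1 (pt i) = pt (x.2 i)}
      one_mem' := fun _ => rfl
      mul_mem' := by
        intro x y hx hy i
        change x.1.1 (y.1.1 (pt i)) = pt (x.2 (y.2 i))
        rw [hy i, hx]
      inv_mem' := by
        intro x hx i
        change x.1.1⁻¹ (pt i) = pt (x.2⁻¹ i)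
        rw [Equiv.Perm.inv_eq_iff_eq, hx]
        congr 1
        exact ((x.2).apply_symm_apply i).symm }
  let gens : Set (↥K × Equiv.Perm (Fin D.n)) :=
    {x | ∃ (l : ℕ) (hl : l < D.L), x = (⟨gl l, hgK l hl⟩, El D h.tab l)}
  let Γ : Subgroup (↥K × Equiv.Perm (Fin D.n)) := Subgroup.closure gens
  have hΓR : Γ ≤ R := by
    rw [Subgroup.closure_le]
    rintro x ⟨l, hl, rfl⟩ i
    exact hgact l hl i
  have h1 : ∀ x ∈ Γ, x.1 = 1 → x.2 = 1 := by
    intro x hx hx1
    have h2 := hΓR hx
    apply Equiv.ext
    intro i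
    have h3 := h2 i
    rw [hx1] at h3
    exact (hptinj h3).symm
  have hmap : Γ.map (MonoidHom.snd ↥K (Equiv.Perm (Fin D.n))) = GS h := by
    rw [MonoidHom.map_closure]
    congr 1
    ext y
    constructor
    · rintro ⟨x, ⟨l, hl, rfl⟩, rfl⟩
      exact ⟨⟨l, hl⟩, rfl⟩
    · rintro ⟨l, rfl⟩
      exact ⟨_, ⟨l.val, l.isLt, rfl⟩, rfl⟩
  have hcard : Nat.card ↥K ≤ Nat.card ↥(GS h) := le_trans hKN (card_ge h)
  obtain ⟨e, hc⟩ := equiv_of_graph Γ h1 (GS h) hmap hcard
  refine ⟨e, ?_⟩
  have := card_ge h
  omega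

/-! ### the data -/

/-- the entry of a list of lists of lists of integers with a given index. -/
def nthC (l : List (List (List ℤ))) (i : ℕ) : List (List ℤ) := l.getD i []

/-- the images of the 24 vectors with one coordinate 8 under the letters, and their values. -/
structure LinD where
  /-- the lists of coordinates of the images. -/
  cols : List (List (List ℤ))
  /-- the values of the lists of coordinates of the images. -/
  pcol : List (List ℤ)

/-- the check of the images of the vectors with one coordinate 8 under a letter. -/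
def colChk (Br : BrF) (Ln : LinD) (l : ℕ) : Bool :=
  ((nthC Ln.cols l).length == 24) &&
  (List.range 24).all (fun k => ((nthZ (nthC Ln.cols l) k).length == 24) &&
    (wordL (nthLW Br.lws l) (e8L k) == nthZ (nthC Ln.cols l) k)) &&
  (nthZ Ln.pcol l == (nthC Ln.cols l).map PZ)

/-- the check of the action of a letter on a vector, the two given by one number. -/
def linChk (D : Dat) (Br : BrF) (Ln : LinD) (v : ℕ) : Bool :=
  8 * PZ (Br.pt (T D (Nat.div v D.n) (Nat.mod v D.n))) ==
    dotL (Br.pt (Nat.mod v D.n)) (nthZ Ln.pcol (Nat.div v D.n))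

/-- the checks. -/
structure BrLOK (D : Dat) (Br : BrF) (Ln : LinD) (fix : List (List ℤ)) : Prop where
  /-- the letters of the words are good. -/
  hlet : Br.lws.all (fun w => w.all letOK) = true
  /-- the images of the vectors with one coordinate 8. -/
  hcol : ∀ l < D.L, colChk Br Ln l = true
  /-- the action of the words on the vectors. -/
  hlin : ∀ v < D.L * D.n, linChk D Br Ln v = true
  /-- the words fix the vectors to be fixed. -/
  hfix : (List.range D.L).all (fun l => fix.all (fun f => wordL (nthLW Br.lws l) f == f)) = true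
  /-- the parents. -/
  htree : ∀ i < D.n, treeChk D Br i = true
  /-- the lists of coordinates increase. -/
  hsrt : ∀ i < D.n - 1, srtChk Br i = true

section bridge

variable {D : Dat} {C : ChainD} {N : ℕ} (h : Core D C N) {Br : BrF} {Ln : LinD}
  {fix : List (List ℤ)} (hB : BrLOK D Br Ln fix)

include hB

theorem lwsL_ok {l : ℕ} : ∀ x ∈ nthLW Br.lws l, letOK x = true := by
  intro x hx
  have h1 := hB.hlet
  rw [List.all_eq_true] at h1
  by_cases hl : l < Br.lws.length
  · have hm : nthLW Br.lws l ∈ Br.lws := by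
      unfold nthLW
      rw [List.getD_eq_getElem _ _ hl]
      exact List.getElem_mem hl
    have h2 := h1 _ hm
    rw [List.all_eq_true] at h2
    exact h2 x hx
  · unfold nthLW at hx
    rw [List.getD_eq_default _ _ (by omega)] at hx
    exact absurd hx List.not_mem_nil

theorem gLL_apply {l : ℕ} {x : ↥leechLattice} {al : List ℤ} (hx : (x : GolayPt → ℤ) = toVec al) :
    ((gLF Br l x : ↥leechLattice) : GolayPt → ℤ) = toVec (wordL (nthLW Br.lws l) al) :=
  wordEl_apply (lwsL_ok hB) hx

theorem col_spec {l : ℕ} (hl : l < D.L) :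
    (nthC Ln.cols l).length = 24 ∧
    (∀ k < 24, (nthZ (nthC Ln.cols l) k).length = 24 ∧
      wordL (nthLW Br.lws l) (e8L k) = nthZ (nthC Ln.cols l) k) ∧
    nthZ Ln.pcol l = (nthC Ln.cols l).map PZ := by
  have h1 := hB.hcol l hl
  unfold colChk at h1
  rw [Bool.and_eq_true, Bool.and_eq_true, beq_iff_eq, beq_iff_eq, List.all_eq_true] at h1
  refine ⟨h1.1.1, fun k hk => ?_, h1.2⟩
  have h2 := h1.1.2 k (List.mem_range.2 hk)
  rw [Bool.and_eq_true, beq_iff_eq, beq_iff_eq] at h2
  exact h2

/-- the image of a vector with one coordinate 8 under a letter. -/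
theorem col_apply {l : ℕ} (hl : l < D.L) (p : GolayPt) :
    ((gLF Br l (e8 p) : ↥leechLattice) : GolayPt → ℤ) =
      toVec (nthZ (nthC Ln.cols l) (ptIdx p)) := by
  rw [gLL_apply hB (e8_coe' p), ((col_spec hB hl).2.1 _ (ptIdx_lt p)).2]

/-- the value of the image of a vector with one coordinate 8 under a letter. -/
theorem pcol_apply {l : ℕ} (hl : l < D.L) (p : GolayPt) :
    PF (toVec (nthZ (nthC Ln.cols l) (ptIdx p))) = toVec (nthZ Ln.pcol l) p := by
  obtain ⟨h1, h2, h3⟩ := col_spec hB hl
  rw [PF_toVec _ (h2 _ (ptIdx_lt p)).1, h3]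
  unfold toVec nthZ
  have hp : ptIdx p < (nthC Ln.cols l).length := by rw [h1]; exact ptIdx_lt p
  have hp' : ptIdx p < ((nthC Ln.cols l).map PZ).length := by
    rw [List.length_map]
    exact hp
  rw [List.getD_eq_getElem _ _ hp', List.getElem_map, List.getD_eq_getElem _ _ hp]

/-- the action of a letter on a vector. -/
theorem lin_apply {l j : ℕ} (hl : l < D.L) (hj : j < D.n) {y : ↥leechLattice}
    (hy : (y : GolayPt → ℤ) = toVec (Br.pt j)) :
    ((gLF Br l y : ↥leechLattice) : GolayPt → ℤ) = toVec (Br.pt (T D l j)) := by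
  have hg : gLF Br l ∈ Co0 := wordEl_mem _
  -- eight times the image
  have e1 : (8 : ℤ) • (gLF Br l y) = ∑ p, ((y : GolayPt → ℤ) p) • gLF Br l (e8 p) := by
    have h1 := congrArg (toAddHom hg) (eight_smul_eq y)
    rw [map_zsmul, map_sum] at h1
    have h2 : ∀ p ∈ Finset.univ, (toAddHom hg) (((y : GolayPt → ℤ) p) • e8 p) =
        ((y : GolayPt → ℤ) p) • gLF Br l (e8 p) := fun p _ => map_zsmul (toAddHom hg) _ _
    rw [Finset.sum_congr rfl h2] at h1
    exact h1
  have e2 : ∀ q, 8 * ((gLF Br l y : ↥leechLattice) : GolayPt → ℤ) q =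
      ∑ p, toVec (Br.pt j) p * toVec (nthZ (nthC Ln.cols l) (ptIdx p)) q := by
    intro q
    have h1 := congrArg (fun x : ↥leechLattice => (x : GolayPt → ℤ) q) e1
    simp only [AddSubgroup.coe_zsmul, AddSubgroup.val_finsetSum, Finset.sum_apply, Pi.smul_apply,
      smul_eq_mul] at h1
    rw [h1]
    apply Finset.sum_congr rfl
    intro p _
    rw [col_apply hB hl p, hy]
  -- the values
  have e3 : PF (fun q => 8 * ((gLF Br l y : ↥leechLattice) : GolayPt → ℤ) q) =
      PF (fun q => 8 * toVec (Br.pt (T D l j)) q) := by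
    have h1 : (fun q => 8 * ((gLF Br l y : ↥leechLattice) : GolayPt → ℤ) q) =
        fun q => ∑ p ∈ Finset.univ, toVec (Br.pt j) p *
          toVec (nthZ (nthC Ln.cols l) (ptIdx p)) q := by
      funext q
      exact e2 q
    rw [h1, PF_sum, PF_mul, PF_toVec (Br.pt (T D l j)) (decPt_length _)]
    have h2 : ∀ p ∈ Finset.univ, toVec (Br.pt j) p *
        PF (toVec (nthZ (nthC Ln.cols l) (ptIdx p))) =
        toVec (Br.pt j) p * toVec (nthZ Ln.pcol l) p := by
      intro p _
      rw [pcol_apply hB hl p]
    rw [Finset.sum_congr rfl h2]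
    have hlen : (nthZ Ln.pcol l).length = 24 := by
      rw [(col_spec hB hl).2.2, List.length_map, (col_spec hB hl).1]
    rw [sum_toVec_mul (Br.pt j) _ (decPt_length _) hlen]
    have hv : l * D.n + j < D.L * D.n := by
      have : (l + 1) * D.n ≤ D.L * D.n := Nat.mul_le_mul_right _ hl
      rw [Nat.add_mul, Nat.one_mul] at this
      omega
    have h3 := hB.hlin _ hv
    unfold linChk at h3
    have d1 : Nat.div (l * D.n + j) D.n = l := by
      change (l * D.n + j) / D.n = l
      rw [Nat.add_comm, Nat.add_mul_div_right _ _ (by omega), Nat.div_eq_of_lt hj, Nat.zero_add]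
    have d2 : Nat.mod (l * D.n + j) D.n = j := by
      change (l * D.n + j) % D.n = j
      rw [Nat.add_comm, Nat.add_mul_mod_self_right, Nat.mod_eq_of_lt hj]
    rw [d1, d2] at h3
    exact (beq_iff_eq.1 h3).symm
  -- the bounds
  have b1 : ∀ q, |8 * toVec (Br.pt (T D l j)) q| ≤ 1000 := by
    intro q
    have := toVec_bound (decPt_bound (Br.pts.get (T D l j))) (by norm_num) (by norm_num) q
    change -8 ≤ toVec (Br.pt (T D l j)) q ∧ toVec (Br.pt (T D l j)) q ≤ 7 at this
    rw [abs_le]
    constructor <;> omega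
  have b2 : ∀ q, |8 * ((gLF Br l y : ↥leechLattice) : GolayPt → ℤ) q| ≤ 1000 := by
    intro q
    have hn : sqNorm ((gLF Br l y : ↥leechLattice) : GolayPt → ℤ) =
        sqNorm (y : GolayPt → ℤ) := hg.2 y
    have hs : sqNorm (y : GolayPt → ℤ) ≤ 1536 := by
      rw [hy]
      unfold sqNorm
      calc ∑ i, toVec (Br.pt j) i ^ 2 ≤ ∑ _i : GolayPt, (64 : ℤ) := by
            apply Finset.sum_le_sum
            intro i _
            have := toVec_bound (decPt_bound (Br.pts.get j)) (by norm_num) (by norm_num) i
            change -8 ≤ toVec (Br.pt j) i ∧ toVec (Br.pt j) i ≤ 7 at this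
            nlinarith
        _ = 1536 := by
            rw [Finset.sum_const, Finset.card_univ]
            have : Fintype.card GolayPt = 24 := by decide
            rw [this]
            norm_num
    have hq : (((gLF Br l y : ↥leechLattice) : GolayPt → ℤ) q) ^ 2 ≤
        sqNorm ((gLF Br l y : ↥leechLattice) : GolayPt → ℤ) := by
      unfold sqNorm
      exact Finset.single_le_sum (f := fun i => (((gLF Br l y : ↥leechLattice) : GolayPt → ℤ) i) ^ 2)
        (fun i _ => sq_nonneg _) (Finset.mem_univ q)
    rw [abs_le]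
    constructor <;> nlinarith
  have e4 := PF_inj _ _ b2 b1 e3
  funext q
  have := congrFun e4 q
  change 8 * ((gLF Br l y : ↥leechLattice) : GolayPt → ℤ) q = 8 * toVec (Br.pt (T D l j)) q at this
  omega

/-- the lists of coordinates are those of vectors of the lattice. -/
theorem existsL_pt (x0 : ↥leechLattice) (hx0 : (x0 : GolayPt → ℤ) = toVec (Br.pt Br.rt))
    (i : ℕ) (hi : i < D.n) : ∃ x : ↥leechLattice, (x : GolayPt → ℤ) = toVec (Br.pt i) := by
  induction hd : Br.dp.get i using Nat.strong_induction_on generalizing i with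
  | _ d ih =>
    have h2 := hB.htree i hi
    unfold treeChk at h2
    rw [Bool.or_eq_true] at h2
    rcases h2 with h2 | h2
    · rw [beq_iff_eq] at h2
      rw [h2]
      exact ⟨x0, hx0⟩
    · simp only [Bool.and_eq_true, decide_eq_true_eq, beq_iff_eq] at h2
      obtain ⟨⟨⟨h3, h4⟩, h5⟩, h6⟩ := h2
      obtain ⟨y, hy⟩ := ih _ (by rw [← hd]; exact h6) _ h3 rfl
      refine ⟨gLF Br (Br.parL.get i) y, ?_⟩
      rw [lin_apply hB h4 h3 hy, h5]

theorem ptsL_lt {i j : ℕ} (hij : i < j) (hj : j < D.n) : Br.pt i < Br.pt j := by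
  induction j with
  | zero => omega
  | succ j ih =>
    have h2 := hB.hsrt j (by omega)
    unfold srtChk at h2
    rw [decide_eq_true_eq] at h2
    rcases Nat.lt_succ_iff_lt_or_eq.1 hij with h3 | h3
    · exact lt_trans (ih h3 (by omega)) h2
    · rw [h3]
      exact h2

theorem ptsL_inj {i j : ℕ} (hi : i < D.n) (hj : j < D.n) (he : Br.pt i = Br.pt j) :
    i = j := by
  rcases lt_trichotomy i j with h1 | h1 | h1
  · exact absurd he (ne_of_lt (ptsL_lt hB h1 hj))
  · exact h1
  · exact absurd he.symm (ne_of_lt (ptsL_lt hB h1 hi))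

/-- the main statement. -/
theorem bridgeL (K : Subgroup (Equiv.Perm ↥leechLattice)) [Finite K] (hKN : Nat.card K ≤ N)
    (F : List (↥leechLattice × List ℤ)) (hF : ∀ f ∈ F, (f.1 : GolayPt → ℤ) = toVec f.2)
    (hfix : fix = F.map Prod.snd)
    (hK : ∀ g ∈ Co0, (∀ f ∈ F, g f.1 = f.1) → g ∈ K)
    (x0 : ↥leechLattice) (hx0 : (x0 : GolayPt → ℤ) = toVec (Br.pt Br.rt)) :
    Nonempty (↥K ≃* ↥(GS h)) ∧ Nat.card ↥(GS h) = N := by
  classical
  have hex := existsL_pt hB x0 hx0
  let pt : Fin D.n → ↥leechLattice := fun i => Classical.choose (hex i.val i.isLt)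
  have hpt : ∀ i : Fin D.n, ((pt i : ↥leechLattice) : GolayPt → ℤ) = toVec (Br.pt i.val) :=
    fun i => Classical.choose_spec (hex i.val i.isLt)
  have hptinj : Function.Injective pt := by
    intro i j hij
    apply Fin.ext
    apply ptsL_inj hB i.isLt j.isLt
    refine toVec_inj (al := Br.pt i.val) (bl := Br.pt j.val) (decPt_length _) (decPt_length _) ?_
    rw [← hpt, ← hpt, hij]
  refine bridge_abs h K hKN pt hptinj (gLF Br) ?_ ?_
  · intro l hl
    apply hK _ (wordEl_mem _)
    intro f hf
    apply Subtype.ext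
    have e := gLL_apply hB (l := l) (hF f hf)
    have h1 := hB.hfix
    rw [List.all_eq_true] at h1
    have h2 := h1 l (List.mem_range.2 hl)
    rw [List.all_eq_true] at h2
    have h3 := h2 f.2 (by rw [hfix]; exact List.mem_map.2 ⟨f, hf, rfl⟩)
    rw [beq_iff_eq.1 h3, ← hF f hf] at e
    exact e
  · intro l hl i
    apply Subtype.ext
    rw [lin_apply hB hl i.isLt (hpt i), hpt]
    rfl

end bridge

end Cfsg.Agent.Helper9.LeechAct

end
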